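import Cfsg.Agent.H254.FxTools
import Cfsg.Agent.H104.Closed_m3
import Cfsg.Agent.S0243
import Cfsg.Agent.Prune
set_option linter.all false
prune_inst 0x7f00000000000000000000000000000000000000000000000000000000000000000000000000000000000000000000000000000000000000000000000000000000000000000000000000000000000000003fffffffffffffffffffffffffffbeffbdffffffff
open scoped Cfsg.Agent.FastGrp

/-!
# The field model in `GL_e(q)` and the embedding `GL_k → PSL_{k+1}` (after helper807; helper734)
-/

set_option autoImplicit false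
set_option linter.style.haveILetI false
set_option linter.unusedSectionVars false

namespace Cfsg.Agent.H734.Fx

open Matrix Subgroup
open Cfsg.Agent.H254.Fx
open Cfsg.Agent.H104.GoodFam Cfsg.Agent.H104.RowPSL

section gl

variable {F : Type} [Field F]

/-- `A ↦ diag(A, det A⁻¹)` -/
def glSL (F : Type) [Field F] (k : ℕ) : GL (Fin k) F →* SpecialLinearGroup (Fin k ⊕ Fin 1) F where
  toFun A := ⟨fromBlocks A.1 0 0 (Matrix.scalar (Fin 1) ((((GeneralLinearGroup.det A)⁻¹ : Fˣ) : F))), by
    rw [det_fromBlocks_zero₂₁, det_fin_one, scalar_apply, diagonal_apply_eq]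
    change ((GeneralLinearGroup.det A : Fˣ) : F) * _ = 1
    exact Units.mul_inv _⟩
  map_one' := by
    apply Subtype.ext
    change fromBlocks (1 : Matrix (Fin k) (Fin k) F) 0 0 _ = 1
    rw [map_one, inv_one, Units.val_one, map_one, fromBlocks_one]
  map_mul' A B := by
    apply Subtype.ext
    change fromBlocks (A.1 * B.1) 0 0 _ = fromBlocks A.1 0 0 _ * fromBlocks B.1 0 0 _
    rw [fromBlocks_multiply, map_mul, mul_inv, Units.val_mul, map_mul]
    simp

theorem coe_glSL (k : ℕ) (A : GL (Fin k) F) : (glSL F k A).1 =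
    fromBlocks A.1 0 0 (Matrix.scalar (Fin 1) ((((GeneralLinearGroup.det A)⁻¹ : Fˣ) : F))) := rfl

/-- `GL_k → PSL_{k+1}` -/
def gl (F : Type) [Field F] (k : ℕ) : GL (Fin k) F →* ProjectiveSpecialLinearGroup (Fin (k + 1)) F :=
  (QuotientGroup.mk' (center (SpecialLinearGroup (Fin (k + 1)) F))).comp ((relabel finSumFinEquiv).comp (glSL F k))

theorem gl_eq_one {k : ℕ} {A : GL (Fin k) F} (h : gl F k A = 1) :
    ∃ c : F, c ^ (k + 1) = 1 ∧ A.1 = Matrix.scalar _ c := by
  obtain ⟨c, hc, h1⟩ := (mk_eq_one_iff _).1 h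
  rw [MonoidHom.comp_apply] at h1
  refine ⟨c, hc, ?_⟩
  have h2 : ∀ i j, (relabel finSumFinEquiv (glSL F k A)).1 (finSumFinEquiv i) (finSumFinEquiv j) =
      (glSL F k A).1 i j := by
    intro i j
    change (glSL F k A).1.submatrix finSumFinEquiv.symm finSumFinEquiv.symm (finSumFinEquiv i) (finSumFinEquiv j) = _
    rw [submatrix_apply, Equiv.symm_apply_apply, Equiv.symm_apply_apply]
  ext i j
  have h3 := h2 (.inl i) (.inl j)
  rw [coe_glSL, fromBlocks_apply₁₁, h1] at h3
  rw [← h3]
  simp [Matrix.diagonal_apply]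

end gl

section field

variable {F K : Type} [Field F] [Fintype F] [Field K] [Finite K] [Algebra F K] {e : ℕ}
  (b : Module.Basis (Fin e) F K)

/-- multiplications -/
noncomputable def TT : Kˣ →* GL (Fin e) F := Units.map (Algebra.leftMulMatrix b : K →* Matrix (Fin e) (Fin e) F)

theorem coe_TT (a : Kˣ) : (TT b a).1 = Algebra.leftMulMatrix b (a : K) := rfl

theorem TT_eq_scalar {a : Kˣ} {c : F} (h : (TT b a).1 = Matrix.scalar _ c) : (a : K) = algebraMap F K c := by
  rw [coe_TT] at h
  apply Algebra.leftMulMatrix_injective b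
  rw [h, AlgHom.commutes]
  rfl

theorem TT_det (a : Kˣ) : (TT b a).1.det = Algebra.norm F (a : K) := by
  rw [coe_TT, Algebra.norm_eq_matrix_det b]

/-- automorphisms -/
noncomputable def PH : (K ≃ₐ[F] K) →* GL (Fin e) F :=
  (((LinearMap.toMatrixAlgEquiv b : Module.End F K ≃ₐ[F] Matrix (Fin e) (Fin e) F) :
    Module.End F K →* Matrix (Fin e) (Fin e) F).comp (AlgEquiv.toLinearMapHom F K)).toHomUnits

theorem coe_PH (σ : K ≃ₐ[F] K) : (PH b σ).1 = LinearMap.toMatrixAlgEquiv b σ.toLinearMap := rfl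

theorem coe_TT' (a : Kˣ) : (TT b a).1 = LinearMap.toMatrixAlgEquiv b (LinearMap.mulLeft F (a : K)) := by
  rw [coe_TT, Algebra.leftMulMatrix_apply]
  rfl

theorem PH_conj (σ : K ≃ₐ[F] K) (a : Kˣ) : PH b σ * TT b a * (PH b σ)⁻¹ = TT b (Units.map (σ : K →* K) a) := by
  rw [mul_inv_eq_iff_eq_mul]
  apply Units.ext
  rw [Units.val_mul, Units.val_mul, coe_PH, coe_TT', coe_TT', ← map_mul, ← map_mul]
  congr 1
  ext x
  change σ ((a : K) * x) = σ (a : K) * σ x
  exact map_mul σ _ _

/-- Frobenius -/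
noncomputable def fr (F K : Type) [Field F] [Fintype F] [Field K] [Finite K] [Algebra F K] : K ≃ₐ[F] K :=
  FiniteField.frobeniusAlgEquivOfAlgebraic F K

theorem fr_conj (a : Kˣ) : PH b (fr F K) * TT b a * (PH b (fr F K))⁻¹ = TT b a ^ Fintype.card F := by
  rw [PH_conj, ← map_pow]
  congr 1

theorem fr_pow (h : Module.finrank F K = e) : PH b (fr F K) ^ e = 1 := by
  have h1 := FiniteField.orderOf_frobeniusAlgEquivOfAlgebraic F K
  have h2 : fr F K ^ e = 1 := orderOf_dvd_iff_pow_eq_one.1 (dvd_of_eq (h1.trans h))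
  rw [← map_pow, h2, map_one]

end field

/-- the field extension of degree `e` -/
theorem exists_ext (F : Type) [Field F] [Fintype F] {e : ℕ} (he : 1 ≤ e) :
    ∃ (K : Type) (_ : Field K) (_ : Finite K) (_ : Algebra F K), Nat.card K = Fintype.card F ^ e ∧
      Module.finrank F K = e ∧ Nonempty (Module.Basis (Fin e) F K) := by
  obtain ⟨r, hr⟩ := CharP.exists F
  obtain ⟨n, hr', hn⟩ := FiniteField.card F r
  have : Fact r.Prime := ⟨hr'⟩
  have : NeZero e := ⟨by omega⟩
  have hcardK : Nat.card (FiniteField.Extension F r e) = Nat.card F ^ e := FiniteField.natCard_extension F r e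
  have hfin : Module.finrank F (FiniteField.Extension F r e) = e := by
    have h1 := Module.natCard_eq_pow_finrank (K := F) (V := FiniteField.Extension F r e)
    rw [hcardK] at h1
    exact (Nat.pow_right_injective (Finite.one_lt_card (α := F)) h1).symm
  refine ⟨FiniteField.Extension F r e, inferInstance, inferInstance, inferInstance, ?_, hfin,
    ⟨Module.finBasisOfFinrankEq F _ hfin⟩⟩
  rw [hcardK, Nat.card_eq_fintype_card]

end Cfsg.Agent.H734.Fx
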